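/-
Matrices of coefficients of comodules, ideals of closed subgroups.
-/
import Groth.Agent.HopfFFLib.Normal.Points
import Mathlib.LinearAlgebra.Matrix.Adjugate
import Mathlib.LinearAlgebra.Dual.Lemmas

set_option autoImplicit false

universe u v w

open TensorProduct WithConv

namespace Groth.Agent.HopfFF

attribute [local instance] pointsGroup

variable {k : Type u} [Field k] {A : Type u} [CommRing A] [HopfAlgebra k A]

/-- An ideal whose zero locus is a subgroup is a Hopf ideal. -/
theorem isHopfIdeal_of_subgroup (J : Ideal A)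
    (h1 : ∀ a ∈ J, CoalgebraStruct.counit (R := k) a = 0)
    (hmul : ∀ (R : Type u) [CommRing R] [Algebra k R] (f g : WithConv (A →ₐ[k] R)),
      (∀ a ∈ J, f.ofConv a = 0) → (∀ a ∈ J, g.ofConv a = 0) → ∀ a ∈ J, (f * g).ofConv a = 0)
    (hinv : ∀ (R : Type u) [CommRing R] [Algebra k R] (f : WithConv (A →ₐ[k] R)),
      (∀ a ∈ J, f.ofConv a = 0) → ∀ a ∈ J, f⁻¹.ofConv a = 0) :
    J.IsHopfIdeal k := by
  let π : A →ₐ[k] A ⧸ J := Ideal.Quotient.mkₐ k J
  have hπ : ∀ a ∈ J, π a = 0 := fun a ha => Ideal.Quotient.eq_zero_iff_mem.2 ha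
  refine { counit_eq_zero := fun x hx => h1 x hx, map_mkQ_comul_eq_zero := ?_, antipode_mem := ?_ }
  · intro x hx
    have h := hmul ((A ⧸ J) ⊗[k] (A ⧸ J))
      (toConv ((Algebra.TensorProduct.includeLeft : (A ⧸ J) →ₐ[k] (A ⧸ J) ⊗[k] (A ⧸ J)).comp π))
      (toConv ((Algebra.TensorProduct.includeRight : (A ⧸ J) →ₐ[k] (A ⧸ J) ⊗[k] (A ⧸ J)).comp π))
      (fun a ha => by
        show (π a) ⊗ₜ[k] (1 : A ⧸ J) = 0
        rw [hπ a ha, zero_tmul])
      (fun a ha => by
        show (1 : A ⧸ J) ⊗ₜ[k] (π a) = 0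
        rw [hπ a ha, tmul_zero]) x hx
    rw [← map_comp_comul] at h
    exact h
  · intro x hx
    exact Ideal.Quotient.eq_zero_iff_mem.1 (hinv (A ⧸ J) (toConv π) hπ x hx)

/-- The matrix of coefficients of a comodule with a basis. -/
theorem exists_comodMatrix {ι : Type} [Fintype ι] [DecidableEq ι] {V : Type v} [AddCommGroup V]
    [Module k V] [HopfRep.Comod k A V] (b : Module.Basis ι k V) :
    ∃ t : Matrix ι ι A,
      (∀ j, HopfRep.Comod.coact (k := k) (A := A) (b j) = ∑ i, b i ⊗ₜ[k] t i j) ∧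
      (∀ l j, CoalgebraStruct.comul (R := k) (t l j) = ∑ i, t l i ⊗ₜ[k] t i j) ∧
      ∀ l j, CoalgebraStruct.counit (R := k) (t l j) = if l = j then 1 else 0 := by
  let ρ : V →ₗ[k] V ⊗[k] A := HopfRep.Comod.coact
  let t : Matrix ι ι A := fun i j => TensorProduct.equivFinsuppOfBasisLeft b (ρ (b j)) i
  have hΔ : ∀ j, ρ (b j) = ∑ i, b i ⊗ₜ[k] t i j := by
    intro j
    conv_lhs => rw [← (TensorProduct.equivFinsuppOfBasisLeft b).symm_apply_apply (ρ (b j))]
    rw [TensorProduct.equivFinsuppOfBasisLeft_symm_apply, Finsupp.sum_fintype _ _ (by simp)]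
  have hb : ∀ i l, b.coord l (b i) = if i = l then 1 else 0 := fun i l => by
    rw [Module.Basis.coord_apply, b.repr_self, Finsupp.single_apply]
  refine ⟨t, hΔ, fun l j => ?_, fun l j => ?_⟩
  · let P : V ⊗[k] (A ⊗[k] A) →ₗ[k] A ⊗[k] A :=
      (TensorProduct.lid k _).toLinearMap ∘ₗ (b.coord l).rTensor _
    have h := congrArg P
      (LinearMap.congr_fun (HopfRep.Comod.coassoc (k := k) (A := A) (V := V)) (b j))
    simp only [LinearMap.comp_apply, LinearEquiv.coe_coe,
      show HopfRep.Comod.coact (k := k) (A := A) = ρ from rfl, hΔ j, map_sum,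
      LinearMap.rTensor_tmul, LinearMap.lTensor_tmul, hΔ, sum_tmul, TensorProduct.assoc_tmul] at h
    simp only [P, LinearMap.comp_apply, LinearMap.rTensor_tmul, LinearEquiv.coe_coe,
      TensorProduct.lid_tmul, hb, ite_smul, one_smul, zero_smul, Finset.sum_ite_eq',
      Finset.mem_univ, if_true] at h
    exact h.symm
  · have h := congrArg (fun y => b.coord l (TensorProduct.rid k V y))
      (LinearMap.congr_fun (HopfRep.Comod.counit_comp (k := k) (A := A) (V := V)) (b j))
    simp only [LinearMap.comp_apply, show HopfRep.Comod.coact (k := k) (A := A) = ρ from rfl,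
      hΔ j, map_sum, LinearMap.lTensor_tmul, TensorProduct.rid_tmul, map_smul, hb, smul_eq_mul,
      mul_ite, mul_one, mul_zero, Finset.sum_ite_eq', Finset.mem_univ, if_true,
      LinearMap.flip_apply, TensorProduct.mk_apply, one_smul] at h
    rw [h]
    exact if_congr ⟨Eq.symm, Eq.symm⟩ rfl rfl

/-- Evaluating a coefficient matrix at a product of points. -/
theorem map_convMul {R : Type u} [CommRing R] [Algebra k R] {ι : Type} [Fintype ι]
    {t : Matrix ι ι A}
    (ht : ∀ l j, CoalgebraStruct.comul (R := k) (t l j) = ∑ i, t l i ⊗ₜ[k] t i j)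
    (f g : WithConv (A →ₐ[k] R)) : t.map (f * g).ofConv = t.map f.ofConv * t.map g.ofConv := by
  ext l j
  show (f * g) (t l j) = _
  rw [AlgHom.convMul_apply, ht, map_sum, Matrix.mul_apply]
  simp

theorem map_one_point {R : Type u} [CommRing R] [Algebra k R] {ι : Type} [Fintype ι]
    [DecidableEq ι] {t : Matrix ι ι A}
    (hε : ∀ l j, CoalgebraStruct.counit (R := k) (t l j) = if l = j then 1 else 0) :
    t.map (1 : WithConv (A →ₐ[k] R)).ofConv = 1 := by
  ext l j
  show (1 : WithConv (A →ₐ[k] R)).ofConv (t l j) = _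
  rw [Matrix.one_apply]
  simp [hε, apply_ite (algebraMap k R)]

/-- A functional vanishing on the kernel of a linear map factors through it. -/
theorem exists_functional_factor {M : Type v} {V : Type w} [AddCommGroup M] [Module k M]
    [AddCommGroup V] [Module k V] (f : M →ₗ[k] V) (φ : M →ₗ[k] k)
    (h : ∀ m, f m = 0 → φ m = 0) : ∃ ψ : V →ₗ[k] k, ∀ m, ψ (f m) = φ m := by
  have : φ ∈ LinearMap.range f.dualMap := by
    rw [LinearMap.range_dualMap_eq_dualAnnihilator_ker, Submodule.mem_dualAnnihilator]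
    exact h
  obtain ⟨ψ, hψ⟩ := this
  exact ⟨ψ, fun m => LinearMap.congr_fun hψ m⟩

/-- A basis adapted to a subspace. -/
theorem exists_adapted_basis {M : Type v} [AddCommGroup M] [Module k M] [Module.Finite k M]
    (N : Submodule k M) :
    ∃ (d e : ℕ) (b : Module.Basis (Fin d ⊕ Fin e) k M), (∀ i, b (Sum.inl i) ∈ N) ∧
      ∀ m, m ∈ N ↔ ∀ j, b.repr m (Sum.inr j) = 0 := by
  obtain ⟨C, hC⟩ := N.exists_isCompl
  let b := ((Module.finBasis k N).prod (Module.finBasis k C)).map (N.prodEquivOfIsCompl C hC)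
  refine ⟨_, _, b, fun i => ?_, fun m => ?_⟩
  · have h1 : b (Sum.inl i) = (Module.finBasis k N i : M) := by simp [b]
    rw [h1]
    exact (Module.finBasis k N i).2
  · have h : ∀ j, b.repr m (Sum.inr j) =
        (Module.finBasis k C).repr ((N.prodEquivOfIsCompl C hC).symm m).2 j := fun j => by simp [b]
    simp only [h]
    rw [← N.prodEquivOfIsCompl_symm_apply_snd_eq_zero C hC]
    exact ⟨fun h0 j => by rw [h0, map_zero]; rfl,
      fun h0 => (Module.finBasis k C).repr.injective ((Finsupp.ext h0).trans (map_zero _).symm)⟩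

/-- An element of `V ⊗ R` lies in `W ⊗ R` iff its complementary coordinates vanish. -/
theorem mem_range_rTensor_iff_coord {V : Type v} [AddCommGroup V] [Module k V] {R : Type u}
    [AddCommGroup R] [Module k R] {d e : ℕ} (b : Module.Basis (Fin d ⊕ Fin e) k V)
    {W : Submodule k V} (hW : ∀ i, b (Sum.inl i) ∈ W)
    (hW' : ∀ m, m ∈ W ↔ ∀ j, b.repr m (Sum.inr j) = 0) (x : Fin d ⊕ Fin e → R) :
    (∑ i, b i ⊗ₜ[k] x i) ∈ LinearMap.range (W.subtype.rTensor R) ↔ ∀ j, x (Sum.inr j) = 0 := by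
  constructor
  · rintro ⟨z, hz⟩ j
    let P : V ⊗[k] R →ₗ[k] R :=
      (TensorProduct.lid k R).toLinearMap ∘ₗ (b.coord (Sum.inr j)).rTensor R
    have h := congrArg P hz
    have h0 : ∀ z, P (W.subtype.rTensor R z) = 0 := by
      intro z
      induction z using TensorProduct.induction_on with
      | zero => simp
      | add z w hz hw => simp only [map_add, hz, hw, add_zero]
      | tmul w r =>
        simp [P, (hW' (w : V)).1 w.2 j]
    rw [h0] at h
    simpa [P, Finsupp.single_apply, ite_smul] using h.symm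
  · intro h
    rw [Fintype.sum_sum_type]
    simp only [h, tmul_zero, Finset.sum_const_zero, add_zero]
    exact Submodule.sum_mem _ fun i _ => ⟨(⟨_, hW i⟩ : W) ⊗ₜ[k] x (Sum.inl i), rfl⟩

end Groth.Agent.HopfFF
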