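/-
The Plücker comodule: stabilisers of subspaces as stabilisers of lines.
-/
import Groth.Agent.HopfFFLib.Stab.Basic
import Mathlib.LinearAlgebra.Matrix.Determinant.Basic
import Mathlib.Algebra.BigOperators.Ring.Finset

set_option autoImplicit false

universe u v

open TensorProduct WithConv

namespace Groth.Agent.HopfFF

attribute [local instance] pointsGroup

section det

variable {R : Type v} [CommRing R] {ι : Type} [Fintype ι] [DecidableEq ι] {d : ℕ}

/-- The determinant of a product, expanded along rows. -/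
theorem det_mul_expand (Y : Matrix (Fin d) ι R) (X : Matrix ι (Fin d) R) :
    (Y * X).det = ∑ τ : Fin d → ι, (∏ i, Y i (τ i)) * (X.submatrix τ id).det := by
  have h : (Y * X).det = Matrix.detRowAlternating fun i => ∑ a, Y i a • X a := by
    show Matrix.detRowAlternating _ = _
    congr 1
    ext i j
    simp [Matrix.mul_apply]
  rw [h]
  show Matrix.detRowAlternating.toMultilinearMap _ = _
  rw [MultilinearMap.map_sum]
  refine Finset.sum_congr rfl fun τ _ => ?_
  rw [MultilinearMap.map_smul_univ]
  rfl

/-- Replacing a row is multiplication by the adjugate. -/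
theorem det_updateRow_eq (P : Matrix (Fin d) (Fin d) R) (q : Fin d → R) (i : Fin d) :
    (P.updateRow i q).det = ∑ j, q j * P.adjugate j i := by
  rw [← Matrix.cramer_transpose_apply, Matrix.cramer_eq_adjugate_mulVec,
    ← Matrix.adjugate_transpose]
  simp [Matrix.mulVec, dotProduct, mul_comm]

end det

variable {k : Type u} [Field k] {A : Type u} [CommRing A] [HopfAlgebra k A]
variable {ι : Type} [Fintype ι] [DecidableEq ι]

theorem prod_tmul {d : ℕ} (a b : Fin d → A) :
    ∏ i, a i ⊗ₜ[k] b i = (∏ i, a i) ⊗ₜ[k] (∏ i, b i) := by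
  induction d with
  | zero => simp [Algebra.TensorProduct.one_def]
  | succ d ih =>
    rw [Fin.prod_univ_succ, Fin.prod_univ_succ, Fin.prod_univ_succ, ih,
      Algebra.TensorProduct.tmul_mul_tmul]

/-- The coefficient matrix of a tensor power. -/
noncomputable def powMatrix (d : ℕ) (t : Matrix ι ι A) :
    Matrix (Fin d → ι) (Fin d → ι) A :=
  fun σ τ => ∏ i, t (σ i) (τ i)

theorem comul_powMatrix {d : ℕ} {t : Matrix ι ι A}
    (ht : ∀ l j, CoalgebraStruct.comul (R := k) (t l j) = ∑ i, t l i ⊗ₜ[k] t i j)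
    (σ τ : Fin d → ι) :
    CoalgebraStruct.comul (R := k) (powMatrix d t σ τ) =
      ∑ ρ, powMatrix d t σ ρ ⊗ₜ[k] powMatrix d t ρ τ := by
  show Bialgebra.comulAlgHom k A (∏ i, t (σ i) (τ i)) = _
  rw [map_prod]
  simp only [Bialgebra.comulAlgHom_apply, ht]
  rw [Fintype.prod_sum]
  exact Finset.sum_congr rfl fun ρ _ => prod_tmul _ _

theorem counit_powMatrix {d : ℕ} {t : Matrix ι ι A}
    (hε : ∀ l j, CoalgebraStruct.counit (R := k) (t l j) = if l = j then 1 else 0)
    (σ τ : Fin d → ι) :
    CoalgebraStruct.counit (R := k) (powMatrix d t σ τ) = if σ = τ then 1 else 0 := by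
  show Bialgebra.counitAlgHom k A (∏ i, t (σ i) (τ i)) = _
  rw [map_prod]
  simp only [Bialgebra.counitAlgHom_apply, hε]
  rw [Fintype.prod_boole]
  split_ifs <;> simp_all [funext_iff]

section comod

variable {J : Type} [Fintype J] [DecidableEq J] (m : Matrix J J A)

/-- The coaction given by a matrix. -/
noncomputable def matrixCoact : (J → k) →ₗ[k] (J → k) ⊗[k] A :=
  (Pi.basisFun k J).constr k fun τ => ∑ σ, Pi.single σ (1 : k) ⊗ₜ[k] m σ τ

theorem matrixCoact_single (τ : J) :
    matrixCoact (k := k) m (Pi.single τ 1) = ∑ σ, Pi.single σ (1 : k) ⊗ₜ[k] m σ τ := by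
  rw [matrixCoact, ← Pi.basisFun_apply, Module.Basis.constr_basis]

/-- The comodule given by a comultiplicative matrix. -/
@[reducible] noncomputable def matrixComod
    (hm : ∀ σ τ, CoalgebraStruct.comul (R := k) (m σ τ) = ∑ ρ, m σ ρ ⊗ₜ[k] m ρ τ)
    (hε : ∀ σ τ, CoalgebraStruct.counit (R := k) (m σ τ) = if σ = τ then 1 else 0) :
    HopfRep.Comod k A (J → k) where
  coact := matrixCoact m
  coassoc := by
    refine (Pi.basisFun k J).ext fun τ => ?_
    rw [Pi.basisFun_apply]
    simp only [LinearMap.comp_apply, LinearEquiv.coe_coe, matrixCoact_single, map_sum,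
      LinearMap.rTensor_tmul, LinearMap.lTensor_tmul, sum_tmul, TensorProduct.assoc_tmul, hm,
      tmul_sum]
    exact Finset.sum_comm
  counit_comp := by
    refine (Pi.basisFun k J).ext fun τ => ?_
    rw [Pi.basisFun_apply]
    simp only [LinearMap.comp_apply, matrixCoact_single, map_sum, LinearMap.lTensor_tmul, hε,
      tmul_ite, tmul_zero, Finset.sum_ite_eq', Finset.mem_univ, if_true, LinearMap.flip_apply,
      TensorProduct.mk_apply]

/-- Coordinates of a translate of a vector. -/
theorem translate_eq_iff {R : Type u} [CommRing R] [Algebra k R] (g : A →ₐ[k] R) (v : J → k)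
    (c : R) :
    LinearMap.lTensor (J → k) g.toLinearMap (matrixCoact m v) = v ⊗ₜ[k] c ↔
      ∀ σ, (∑ τ, algebraMap k R (v τ) * g (m σ τ)) = algebraMap k R (v σ) * c := by
  have hx : LinearMap.lTensor (J → k) g.toLinearMap (matrixCoact m v) =
      ∑ σ, Pi.single σ (1 : k) ⊗ₜ[k] ∑ τ, algebraMap k R (v τ) * g (m σ τ) := by
    conv_lhs => rw [pi_eq_sum_univ' v]
    simp only [map_sum, map_smul, matrixCoact_single, LinearMap.lTensor_tmul,
      AlgHom.toLinearMap_apply, tmul_sum, Finset.smul_sum]
    rw [Finset.sum_comm]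
    refine Finset.sum_congr rfl fun σ _ => Finset.sum_congr rfl fun τ _ => ?_
    rw [← TensorProduct.tmul_smul, Algebra.smul_def]
  have hv : ∀ c : R, v ⊗ₜ[k] c = ∑ σ, Pi.single σ (1 : k) ⊗ₜ[k] (algebraMap k R (v σ) * c) := by
    intro c
    conv_lhs => rw [pi_eq_sum_univ' v]
    rw [sum_tmul]
    exact Finset.sum_congr rfl fun σ _ => by rw [smul_tmul, Algebra.smul_def]
  have hinj : ∀ a b : J → R, (∑ σ, Pi.single σ (1 : k) ⊗ₜ[k] a σ) =
      ∑ σ, Pi.single σ (1 : k) ⊗ₜ[k] b σ → a = b := by
    intro a b h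
    funext τ
    have := congrArg (fun z => TensorProduct.lid k R ((LinearMap.proj τ).rTensor R z)) h
    simpa [map_sum, Pi.single_apply, ite_smul] using this
  rw [hx, hv]
  exact ⟨fun h σ => congrFun (hinj _ _ h) σ,
    fun h => Finset.sum_congr rfl fun σ _ => by rw [h σ]⟩

theorem stabilizes_iff {R : Type u} [CommRing R] [Algebra k R] (g : A →ₐ[k] R) (v : J → k) :
    (∃ c : R, LinearMap.lTensor (J → k) g.toLinearMap (matrixCoact m v) = v ⊗ₜ[k] c) ↔
      ∃ c : R, ∀ σ, (∑ τ, algebraMap k R (v τ) * g (m σ τ)) = algebraMap k R (v σ) * c :=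
  exists_congr fun c => translate_eq_iff m g v c

end comod

section line

variable {d e : ℕ} {t : Matrix (Fin d ⊕ Fin e) (Fin d ⊕ Fin e) A}

variable (k) in
/-- The Plücker vector of the first block. -/
noncomputable def pluecker (d e : ℕ) : (Fin d → Fin d ⊕ Fin e) → k :=
  fun τ => ((1 : Matrix (Fin d ⊕ Fin e) (Fin d ⊕ Fin e) k).submatrix τ Sum.inl).det

theorem pluecker_ne_zero : pluecker k d e ≠ 0 := by
  intro h
  have := congrFun h Sum.inl
  rw [pluecker, Matrix.submatrix_one _ Sum.inl_injective, Matrix.det_one] at this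
  exact one_ne_zero this

theorem sum_pluecker {R : Type u} [CommRing R] [Algebra k R] (g : A →ₐ[k] R)
    (σ : Fin d → Fin d ⊕ Fin e) :
    (∑ τ, algebraMap k R (pluecker k d e τ) * g (powMatrix d t σ τ)) =
      ((t.map g).submatrix σ Sum.inl).det := by
  have h : (t.map g).submatrix σ Sum.inl =
      (t.map g).submatrix σ id *
        (1 : Matrix (Fin d ⊕ Fin e) (Fin d ⊕ Fin e) R).submatrix id Sum.inl := by
    rw [← Matrix.submatrix_mul _ _ σ id Sum.inl Function.bijective_id, Matrix.mul_one]
  rw [h, det_mul_expand]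
  refine Finset.sum_congr rfl fun τ _ => ?_
  rw [mul_comm, pluecker, RingHom.map_det, powMatrix, map_prod]
  congr 2
  ext i j
  simp [Matrix.one_apply, apply_ite (algebraMap k R)]

/-- The line through the Plücker vector is stabilised exactly by the stabiliser of the first
block. -/
theorem pluecker_stabilized_iff
    (ht : ∀ l j, CoalgebraStruct.comul (R := k) (t l j) = ∑ i, t l i ⊗ₜ[k] t i j)
    (hε : ∀ l j, CoalgebraStruct.counit (R := k) (t l j) = if l = j then 1 else 0)
    {R : Type u} [CommRing R] [Algebra k R] (g : A →ₐ[k] R) :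
    (∃ c : R, LinearMap.lTensor _ g.toLinearMap (matrixCoact (powMatrix d t) (pluecker k d e)) =
      pluecker k d e ⊗ₜ[k] c) ↔ ∀ l j, g (t (Sum.inr l) (Sum.inl j)) = 0 := by
  rw [stabilizes_iff]
  simp only [sum_pluecker]
  have hT : t.map (toConv g)⁻¹.ofConv * t.map g = 1 := by
    rw [show t.map g = t.map (toConv g).ofConv from rfl, ← map_convMul ht, inv_mul_cancel,
      map_one_point hε]
  let T := t.map g
  let v := pluecker k d e
  have hv : ∀ σ, algebraMap k R (v σ) =
      ((1 : Matrix (Fin d ⊕ Fin e) (Fin d ⊕ Fin e) R).submatrix σ Sum.inl).det := by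
    intro σ
    show algebraMap k R (((1 : Matrix (Fin d ⊕ Fin e) (Fin d ⊕ Fin e) k).submatrix σ Sum.inl).det) = _
    rw [RingHom.map_det]
    congr 1
    ext i j
    simp [Matrix.one_apply, apply_ite (algebraMap k R)]
  constructor
  · rintro ⟨c, hc⟩ l j
    let Y := t.map (toConv g)⁻¹.ofConv
    -- the left inverse of the first block of columns
    have h1 : (1 : R) = c * ∑ τ, (∏ i, Y (Sum.inl i) (τ i)) * algebraMap k R (v τ) := by
      have e1 : (Y.submatrix Sum.inl id) * (T.submatrix id Sum.inl) = (1 : Matrix (Fin d) (Fin d) R) := by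
        rw [← Matrix.submatrix_mul _ _ Sum.inl id Sum.inl Function.bijective_id, hT,
          Matrix.submatrix_one _ Sum.inl_injective]
      have e2 := congrArg Matrix.det e1
      rw [det_mul_expand, Matrix.det_one] at e2
      rw [← e2, Finset.mul_sum]
      refine Finset.sum_congr rfl fun τ _ => ?_
      rw [show ((T.submatrix id Sum.inl).submatrix τ id).det = algebraMap k R (v τ) * c from hc τ]
      simp only [Matrix.submatrix_apply, id]
      ring
    let P := T.submatrix Sum.inl Sum.inl
    have hdet : P.det = c := by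
      rw [show P.det = algebraMap k R (v Sum.inl) * c from hc Sum.inl, hv,
        Matrix.submatrix_one _ Sum.inl_injective, Matrix.det_one, one_mul]
    have hQ : ∀ i, (P.updateRow i fun j => T (Sum.inr l) (Sum.inl j)).det = 0 := by
      intro i
      have h := hc (Function.update Sum.inl i (Sum.inr l))
      have e1 : T.submatrix (Function.update Sum.inl i (Sum.inr l)) Sum.inl =
          P.updateRow i fun j => T (Sum.inr l) (Sum.inl j) := by
        ext a b
        rcases eq_or_ne a i with rfl | ha
        · simp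
        · simp [P, ha]
      rw [← e1]
      refine h.trans ?_
      rw [hv, Matrix.det_eq_zero_of_row_eq_zero i fun b => by simp, zero_mul]
    have hz : c * g (t (Sum.inr l) (Sum.inl j)) = 0 := by
      rw [← hdet]
      have e1 := congrFun (congrArg (fun M => Matrix.vecMul (fun j => T (Sum.inr l) (Sum.inl j)) M)
        (Matrix.adjugate_mul P)) j
      simp only [Matrix.vecMul_smul, Matrix.vecMul_one, Pi.smul_apply, smul_eq_mul] at e1
      rw [← Matrix.vecMul_vecMul] at e1
      refine e1.symm.trans ?_
      have e2 : Matrix.vecMul (fun j => T (Sum.inr l) (Sum.inl j)) P.adjugate = 0 := by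
        funext i
        refine Eq.trans ?_ (hQ i)
        rw [det_updateRow_eq]
        rfl
      rw [e2, Matrix.zero_vecMul]
      rfl
    calc g (t (Sum.inr l) (Sum.inl j))
        = (c * ∑ τ, (∏ i, Y (Sum.inl i) (τ i)) * algebraMap k R (v τ)) *
            g (t (Sum.inr l) (Sum.inl j)) := by rw [← h1, one_mul]
      _ = 0 := by rw [mul_right_comm, hz, zero_mul]
  · intro h
    refine ⟨(T.submatrix Sum.inl Sum.inl).det, fun σ => ?_⟩
    have e1 : T.submatrix σ Sum.inl =
        (1 : Matrix (Fin d ⊕ Fin e) (Fin d ⊕ Fin e) R).submatrix σ Sum.inl *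
          T.submatrix Sum.inl Sum.inl := by
      ext i j
      simp only [Matrix.submatrix_apply, Matrix.mul_apply, Matrix.one_apply]
      rcases σ i with a | b
      · simp
      · simpa [T] using h b j
    rw [hv, ← Matrix.det_mul, ← e1]

end line

end Groth.Agent.HopfFF
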