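/-
Stabilisers of subspaces, finite subcomodules containing given elements.
-/
import Groth.Agent.HopfFFLib.Stab.Plucker
import Groth.Agent.ComodLib.LinRed

set_option autoImplicit false

universe u v

open TensorProduct WithConv

namespace Groth.Agent.HopfFF

attribute [local instance] pointsGroup

variable {k : Type u} [Field k] {A : Type u} [CommRing A] [HopfAlgebra k A]

/-- The ideal of the lower left block of a comultiplicative matrix is a Hopf ideal. -/
theorem isHopfIdeal_block {d e : ℕ} {t : Matrix (Fin d ⊕ Fin e) (Fin d ⊕ Fin e) A}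
    (ht : ∀ l j, CoalgebraStruct.comul (R := k) (t l j) = ∑ i, t l i ⊗ₜ[k] t i j)
    (hε : ∀ l j, CoalgebraStruct.counit (R := k) (t l j) = if l = j then 1 else 0) :
    (Ideal.span (Set.range fun p : Fin e × Fin d => t (Sum.inr p.1) (Sum.inl p.2))).IsHopfIdeal
      k := by
  let J := Ideal.span (Set.range fun p : Fin e × Fin d => t (Sum.inr p.1) (Sum.inl p.2))
  have hiff : ∀ {R : Type u} [CommRing R] [Algebra k R] (f : WithConv (A →ₐ[k] R)),
      (∀ a ∈ J, f.ofConv a = 0) ↔ ∀ l j, f.ofConv (t (Sum.inr l) (Sum.inl j)) = 0 := by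
    intro R _ _ f
    refine ⟨fun h l j => h _ (Ideal.subset_span ⟨(l, j), rfl⟩), fun h a ha => ?_⟩
    have : J ≤ RingHom.ker f.ofConv := Ideal.span_le.2 (by rintro _ ⟨p, rfl⟩; exact h p.1 p.2)
    exact this ha
  refine isHopfIdeal_of_subgroup J (fun a ha => ?_) (fun R _ _ f g hf hg => ?_)
    (fun R _ _ f hf => ?_)
  · have : J ≤ RingHom.ker (Bialgebra.counitAlgHom k A) := Ideal.span_le.2 (by
      rintro _ ⟨p, rfl⟩
      simp [hε])
    exact this ha
  · rw [hiff] at hf hg ⊢
    intro l j
    refine (congrFun (congrFun (map_convMul ht f g) _) _).trans ?_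
    rw [Matrix.mul_apply, Fintype.sum_sum_type]
    simp [hf, hg]
  · rw [hiff] at hf ⊢
    intro l j
    let X := t.map f.ofConv
    let Y := t.map (f⁻¹).ofConv
    have hXY : Y * X = 1 := by rw [← map_convMul ht, inv_mul_cancel, map_one_point hε]
    have h21 : ∀ a b, ∑ i, Y (Sum.inr a) (Sum.inl i) * X (Sum.inl i) (Sum.inl b) = 0 := by
      intro a b
      have h := congrFun (congrFun hXY (Sum.inr a)) (Sum.inl b)
      rw [Matrix.mul_apply, Fintype.sum_sum_type] at h
      simpa [X, hf] using h
    have h11 : Y.submatrix Sum.inl Sum.inl * X.submatrix Sum.inl Sum.inl = 1 := by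
      ext a b
      have h := congrFun (congrFun hXY (Sum.inl a)) (Sum.inl b)
      rw [Matrix.mul_apply, Fintype.sum_sum_type] at h
      simpa [X, hf, Matrix.mul_apply, Matrix.one_apply] using h
    have h0 : Y.submatrix Sum.inr Sum.inl * X.submatrix Sum.inl Sum.inl = 0 := by
      ext a b
      exact h21 a b
    have h12 := mul_eq_one_comm.1 h11
    have : Y.submatrix Sum.inr Sum.inl = 0 := by
      rw [← Matrix.mul_one (Y.submatrix Sum.inr Sum.inl), ← h12, ← Matrix.mul_assoc, h0,
        Matrix.zero_mul]
    exact congrFun (congrFun this l) j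

open scoped ComodLib in
/-- A finite set of elements lies in a finite dimensional subcomodule. -/
theorem exists_finite_subcomod (F : Finset A) :
    ∃ W : Submodule k A, Module.Finite k W ∧ (∀ a ∈ F, a ∈ W) ∧
      ∀ w ∈ W, CoalgebraStruct.comul (R := k) w ∈
        LinearMap.range (LinearMap.rTensor A W.subtype) := by
  classical
  induction F using Finset.induction_on with
  | empty => exact ⟨⊥, inferInstance, by simp, fun w hw => by
      rw [(Submodule.mem_bot k).1 hw, map_zero]; exact zero_mem _⟩
  | insert a F _ ih =>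
    obtain ⟨W, hW, hFW, hsub⟩ := ih
    letI := selfComod (k := k) (A := A)
    let W' : Submodule k A :=
      (Submodule.span (ComodLib.Dual' k A) ({a} : Set A)).restrictScalars k
    have hfin : Module.Finite k W' := ComodLib.finite_span_singleton A a
    have hsub' : HopfRep.IsSubcomod (k := k) (A := A) W' := ComodLib.isSubcomod_restrictScalars _
    have haW : a ∈ W' := Submodule.mem_span_singleton_self (R := ComodLib.Dual' k A) a
    refine ⟨W ⊔ W', inferInstance, fun x hx => ?_, fun w hw => ?_⟩
    · rcases Finset.mem_insert.1 hx with rfl | hx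
      · exact Submodule.mem_sup_right haW
      · exact Submodule.mem_sup_left (hFW x hx)
    · obtain ⟨y, hy, z, hz, rfl⟩ := Submodule.mem_sup.1 hw
      have mono : ∀ {P : Submodule k A}, P ≤ W ⊔ W' →
          LinearMap.range (LinearMap.rTensor A P.subtype) ≤
            LinearMap.range (LinearMap.rTensor A (W ⊔ W').subtype) := by
        intro P hP
        rintro _ ⟨t, rfl⟩
        refine ⟨LinearMap.rTensor A (Submodule.inclusion hP) t, ?_⟩
        rw [← LinearMap.comp_apply, ← LinearMap.rTensor_comp]
        rfl
      rw [map_add]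
      exact add_mem (mono le_sup_left (hsub y hy)) (mono le_sup_right (hsub' z hz))

end Groth.Agent.HopfFF
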