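/-
Chevalley: a closed subgroup is the stabiliser of a line.
-/
import Groth.Agent.HopfFFLib.Stab.Subspace

set_option autoImplicit false

universe u

open TensorProduct WithConv

namespace Groth.Agent.HopfFF

attribute [local instance] pointsGroup

variable {k : Type u} [Field k] {A : Type u} [CommRing A] [HopfAlgebra k A]

/-- The coefficients of the self-coaction on a finite dimensional subcomodule, in an adapted basis. -/
theorem exists_block_of_ideal (I : Ideal A) [I.IsHopfIdeal k] (W : Submodule k A)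
    [Module.Finite k W]
    (hsub : ∀ w ∈ W, CoalgebraStruct.comul (R := k) w ∈
      LinearMap.range (LinearMap.rTensor A W.subtype)) :
    ∃ (d e : ℕ) (t : Matrix (Fin d ⊕ Fin e) (Fin d ⊕ Fin e) A),
      (∀ l j, CoalgebraStruct.comul (R := k) (t l j) = ∑ i, t l i ⊗ₜ[k] t i j) ∧
      (∀ l j, CoalgebraStruct.counit (R := k) (t l j) = if l = j then 1 else 0) ∧
      (∀ l j, t (Sum.inr l) (Sum.inl j) ∈ I) ∧
      ∀ a ∈ W, a ∈ I →
        a ∈ Submodule.span k (Set.range fun p : Fin e × Fin d => t (Sum.inr p.1) (Sum.inl p.2)) := by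
  classical
  let π := qmap (k := k) I
  let f : W →ₗ[k] A ⧸ I := π.toLinearMap ∘ₗ W.subtype
  obtain ⟨d, e, b, hb, hb'⟩ := exists_adapted_basis (LinearMap.ker f)
  let ρ : W →ₗ[k] W ⊗[k] A :=
    (LinearEquiv.ofInjective _ (Module.Flat.rTensor_preserves_injective_linearMap (M := A) W.subtype
      Subtype.val_injective)).symm.toLinearMap ∘ₗ
      LinearMap.codRestrict _ (CoalgebraStruct.comul ∘ₗ W.subtype) fun w => hsub _ w.2
  have hρ : ∀ w, W.subtype.rTensor A (ρ w) = CoalgebraStruct.comul (R := k) (w : A) := fun w =>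
    congrArg Subtype.val ((LinearEquiv.ofInjective _
      (Module.Flat.rTensor_preserves_injective_linearMap (M := A) W.subtype
        Subtype.val_injective)).apply_symm_apply _)
  let t : Matrix (Fin d ⊕ Fin e) (Fin d ⊕ Fin e) A :=
    fun i j => TensorProduct.equivFinsuppOfBasisLeft b (ρ (b j)) i
  have hΔ : ∀ j, CoalgebraStruct.comul (R := k) (b j : A) = ∑ i, (b i : A) ⊗ₜ[k] t i j := by
    intro j
    rw [← hρ]
    conv_lhs => rw [← (TensorProduct.equivFinsuppOfBasisLeft b).symm_apply_apply (ρ (b j))]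
    rw [TensorProduct.equivFinsuppOfBasisLeft_symm_apply, Finsupp.sum_fintype _ _ (by simp),
      map_sum]
    rfl
  have hφ : ∀ l, ∃ φ : A →ₗ[k] k, ∀ i, φ (b i : A) = if i = l then 1 else 0 := by
    intro l
    obtain ⟨φ, hφ⟩ := exists_functional_factor W.subtype (b.coord l)
      (fun m hm => by rw [show m = 0 from Subtype.ext hm, map_zero])
    refine ⟨φ, fun i => ?_⟩
    rw [show (b i : A) = W.subtype (b i) from rfl, hφ, Module.Basis.coord_apply, b.repr_self,
      Finsupp.single_apply]
  choose φ hφ using hφ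
  have hε : ∀ l j, CoalgebraStruct.counit (R := k) (t l j) = if l = j then 1 else 0 := by
    intro l j
    have h := congrArg (fun y => φ l (TensorProduct.rid k A y))
      (Coalgebra.lTensor_counit_comul (R := k) (b j : A))
    rw [hΔ j] at h
    simp only [map_sum, LinearMap.lTensor_tmul, TensorProduct.rid_tmul, map_smul, hφ, smul_eq_mul,
      mul_ite, mul_one, mul_zero, Finset.sum_ite_eq', Finset.mem_univ, if_true, one_smul] at h
    rw [h]
    exact if_congr ⟨Eq.symm, Eq.symm⟩ rfl rfl
  have htt : ∀ l j, CoalgebraStruct.comul (R := k) (t l j) = ∑ i, t l i ⊗ₜ[k] t i j := by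
    intro l j
    let P : A ⊗[k] (A ⊗[k] A) →ₗ[k] A ⊗[k] A :=
      (TensorProduct.lid k _).toLinearMap ∘ₗ (φ l).rTensor _
    have h := congrArg P (Coalgebra.coassoc_apply (R := k) (b j : A))
    rw [hΔ j] at h
    simp only [map_sum, LinearMap.rTensor_tmul, LinearMap.lTensor_tmul, hΔ, sum_tmul,
      TensorProduct.assoc_tmul] at h
    simp only [P, LinearMap.comp_apply, LinearMap.rTensor_tmul, LinearEquiv.coe_coe,
      TensorProduct.lid_tmul, hφ, ite_smul, one_smul, zero_smul, Finset.sum_ite_eq',
      Finset.mem_univ, if_true] at h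
    exact h.symm
  have hl : ∀ i, π (b (Sum.inl i) : A) = 0 := fun i => hb i
  refine ⟨d, e, t, htt, hε, fun l j => ?_, fun a haW haI => ?_⟩
  · obtain ⟨ψ, hψ⟩ := exists_functional_factor f (b.coord (Sum.inr l))
      (fun m hm => (hb' m).1 hm l)
    have h0 : Algebra.TensorProduct.map π π
        (CoalgebraStruct.comul (R := k) (b (Sum.inl j) : A)) = 0 := by
      have h := Bialgebra.Quotient.comul_mk (R := k) I (b (Sum.inl j) : A)
      rw [show Ideal.Quotient.mk I (b (Sum.inl j) : A) = π (b (Sum.inl j) : A) from rfl, hl,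
        map_zero] at h
      exact h.symm
    rw [hΔ, map_sum, Fintype.sum_sum_type] at h0
    simp only [Algebra.TensorProduct.map_tmul, hl, zero_tmul, Finset.sum_const_zero, zero_add]
      at h0
    have h1 := congrArg (fun y => TensorProduct.lid k (A ⧸ I) (ψ.rTensor _ y)) h0
    have hψ' : ∀ i, ψ (π (b (Sum.inr i) : A)) = if i = l then 1 else 0 := fun i => by
      rw [show π (b (Sum.inr i) : A) = f (b (Sum.inr i)) from rfl, hψ, Module.Basis.coord_apply,
        b.repr_self, Finsupp.single_apply]
      exact if_congr ⟨fun h => Sum.inr_injective h, fun h => h ▸ rfl⟩ rfl rfl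
    rw [← qmap_eq_zero (k := k)]
    simpa [hψ'] using h1
  · let S := Submodule.span k
      (Set.range fun p : Fin e × Fin d => t (Sum.inr p.1) (Sum.inl p.2))
    have hj : ∀ j, (b (Sum.inl j) : A) ∈ S := by
      intro j
      have h := congrArg (TensorProduct.lid k A)
        (Coalgebra.rTensor_counit_comul (R := k) (b (Sum.inl j) : A))
      rw [hΔ] at h
      simp only [map_sum, LinearMap.rTensor_tmul, TensorProduct.lid_tmul, one_smul] at h
      rw [← h, Fintype.sum_sum_type]
      refine add_mem (Submodule.sum_mem _ fun i _ => ?_) (Submodule.sum_mem _ fun i _ =>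
        Submodule.smul_mem _ _ (Submodule.subset_span ⟨(i, j), rfl⟩))
      rw [show CoalgebraStruct.counit (R := k) (b (Sum.inl i) : A) = 0 from
        Submodule.IsCoideal.counit_eq_zero (I := I.restrictScalars k)
          ((qmap_eq_zero (k := k) I).1 (hl i)), zero_smul]
      exact zero_mem _
    have hm : (⟨a, haW⟩ : W) ∈ LinearMap.ker f := (qmap_eq_zero (k := k) I).2 haI
    have ha : (⟨a, haW⟩ : W) = ∑ i, b.repr ⟨a, haW⟩ (Sum.inl i) • b (Sum.inl i) := by
      conv_lhs => rw [← b.sum_repr ⟨a, haW⟩, Fintype.sum_sum_type]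
      simp [(hb' _).1 hm]
    have := congrArg W.subtype ha
    simp only [map_sum, map_smul, Submodule.subtype_apply] at this
    rw [this]
    exact Submodule.sum_mem _ fun i _ => Submodule.smul_mem _ _ (hj i)

/-- Chevalley's theorem. -/
theorem exists_line [Algebra.FiniteType k A] (I : Ideal A) [I.IsHopfIdeal k] :
    ∃ (V : Type u) (_ : AddCommGroup V) (_ : Module k V) (_ : HopfRep.Comod k A V)
      (_ : Module.Finite k V) (v : V),
      v ≠ 0 ∧ Dyn.Represents k A I (fun R _ _ g => SGA3.StabilizesLine k A v R g) := by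
  classical
  have : IsNoetherianRing A := Algebra.FiniteType.isNoetherianRing k A
  obtain ⟨F, hF⟩ := (IsNoetherian.noetherian (R := A) (M := A) I : I.FG)
  obtain ⟨W, hW, hFW, hsub⟩ := exists_finite_subcomod (k := k) F
  obtain ⟨d, e, t, ht, hε, htI, hgen⟩ := exists_block_of_ideal I W hsub
  refine ⟨(Fin d → Fin d ⊕ Fin e) → k, inferInstance, inferInstance,
    matrixComod (powMatrix d t) (comul_powMatrix ht) (counit_powMatrix hε), inferInstance,
    pluecker k d e, pluecker_ne_zero, fun R _ _ g => ?_⟩
  refine Iff.trans ?_ (pluecker_stabilized_iff ht hε g).symm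
  refine ⟨fun h l j => h _ (htI l j), fun h a ha => ?_⟩
  have hS : ∀ x ∈ Submodule.span k
      (Set.range fun p : Fin e × Fin d => t (Sum.inr p.1) (Sum.inl p.2)), g x = 0 := by
    intro x hx
    have : Submodule.span k (Set.range fun p : Fin e × Fin d => t (Sum.inr p.1) (Sum.inl p.2)) ≤
        LinearMap.ker g.toLinearMap := Submodule.span_le.2 (by rintro _ ⟨p, rfl⟩; exact h p.1 p.2)
    exact this hx
  have hle : I ≤ RingHom.ker g := by
    rw [← hF, Ideal.span_le]
    intro x hx
    exact hS x (hgen x (hFW x hx) (hF ▸ Submodule.subset_span hx))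
  exact hle ha

end Groth.Agent.HopfFF
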