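/-
Lines with trivial character.
-/
import Groth.Agent.HopfFFLib.Stab.Chevalley

set_option autoImplicit false

universe u

open TensorProduct WithConv

namespace Groth.Agent.HopfFF

attribute [local instance] pointsGroup

variable {k : Type u} [Field k] {A : Type u} [CommRing A] [HopfAlgebra k A]

/-- A closed subgroup given by a surjection is defined by a Hopf ideal. -/
theorem isHopfIdeal_ker {B : Type u} [CommRing B] [HopfAlgebra k B] (π : A →ₐc[k] B)
    (hπ : Function.Surjective π) : (RingHom.ker (π : A →+* B)).IsHopfIdeal k := by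
  have hfac : ∀ {R : Type u} [CommRing R] [Algebra k R] (f : WithConv (A →ₐ[k] R)),
      (∀ a ∈ RingHom.ker (π : A →+* B), f.ofConv a = 0) →
        ∃ f' : B →ₐ[k] R, f.ofConv = f'.comp (π : A →ₐ[k] B) := fun f hf =>
    ⟨(π : A →ₐ[k] B).liftOfSurjective hπ f.ofConv hf,
      ((π : A →ₐ[k] B).liftOfSurjective_comp hπ f.ofConv hf).symm⟩
  refine isHopfIdeal_of_subgroup _ (fun a ha => ?_) (fun R _ _ f g hf hg => ?_)
    (fun R _ _ f hf => ?_)
  · rw [← CoalgHomClass.counit_comp_apply π a, show π a = 0 from ha, map_zero]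
  · obtain ⟨f', hf'⟩ := hfac f hf
    obtain ⟨g', hg'⟩ := hfac g hg
    intro a ha
    have h := AlgHom.convMul_comp_bialgHom_distrib (toConv f') (toConv g') π
    rw [ofConv_toConv, ofConv_toConv, ← hf', ← hg'] at h
    refine (AlgHom.congr_fun h a).symm.trans ?_
    show (toConv f' * toConv g').ofConv (π a) = 0
    rw [show π a = 0 from ha, map_zero]
  · obtain ⟨f', hf'⟩ := hfac f hf
    intro a ha
    show f.ofConv (HopfAlgebraStruct.antipode (R := k) a) = 0
    rw [hf', AlgHom.comp_apply]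
    show f' (π (HopfAlgebraStruct.antipode (R := k) a)) = 0
    rw [map_antipode, show π a = 0 from ha, map_zero, map_zero]

section coord

variable {J : Type} [Fintype J] [DecidableEq J] {R : Type u} [CommRing R] [Algebra k R]

/-- The coordinates of a translate. -/
noncomputable def transCoord (m : Matrix J J A) (g : A →ₐ[k] R) (v : J → k) (σ : J) : R :=
  ∑ τ, algebraMap k R (v τ) * g (m σ τ)

theorem exists_combination_eq_one {m : Matrix J J A}
    (hm : ∀ σ τ, CoalgebraStruct.comul (R := k) (m σ τ) = ∑ ρ, m σ ρ ⊗ₜ[k] m ρ τ)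
    (hε : ∀ σ τ, CoalgebraStruct.counit (R := k) (m σ τ) = if σ = τ then 1 else 0)
    (g : A →ₐ[k] R) (v : J → k) {σ₀ : J} (h₀ : v σ₀ = 1) :
    ∃ a : J → R, ∑ σ, a σ * transCoord m g v σ = 1 := by
  let Y := m.map (toConv g)⁻¹.ofConv
  have hT : Y * m.map g = 1 := by
    rw [show m.map g = m.map (toConv g).ofConv from rfl, ← map_convMul hm, inv_mul_cancel,
      map_one_point hε]
  refine ⟨Y σ₀, ?_⟩
  calc ∑ σ, Y σ₀ σ * transCoord m g v σ
      = ∑ τ, algebraMap k R (v τ) * (Y * m.map g) σ₀ τ := by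
        simp only [transCoord, Finset.mul_sum, Matrix.mul_apply, Matrix.map_apply]
        rw [Finset.sum_comm]
        exact Finset.sum_congr rfl fun _ _ => Finset.sum_congr rfl fun _ _ => by ring
    _ = 1 := by simp [hT, Matrix.one_apply, h₀]

variable {J' : Type} [Fintype J'] [DecidableEq J']

/-- The product of two matrices of coefficients. -/
noncomputable def prodMatrix (a : Matrix J J A) (b : Matrix J' J' A) : Matrix (J × J') (J × J') A :=
  fun p q => a p.1 q.1 * b p.2 q.2

omit [DecidableEq J] [DecidableEq J'] in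
theorem comul_prodMatrix {a : Matrix J J A} {b : Matrix J' J' A}
    (ha : ∀ σ τ, CoalgebraStruct.comul (R := k) (a σ τ) = ∑ ρ, a σ ρ ⊗ₜ[k] a ρ τ)
    (hb : ∀ σ τ, CoalgebraStruct.comul (R := k) (b σ τ) = ∑ ρ, b σ ρ ⊗ₜ[k] b ρ τ) (p q : J × J') :
    CoalgebraStruct.comul (R := k) (prodMatrix a b p q) =
      ∑ r, prodMatrix a b p r ⊗ₜ[k] prodMatrix a b r q := by
  simp only [prodMatrix, Bialgebra.comul_mul, ha, hb, Finset.sum_mul, Finset.mul_sum,
    Fintype.sum_prod_type, Algebra.TensorProduct.tmul_mul_tmul]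
  rw [Finset.sum_comm]

omit [Fintype J] [Fintype J'] in
theorem counit_prodMatrix {a : Matrix J J A} {b : Matrix J' J' A}
    (ha : ∀ σ τ, CoalgebraStruct.counit (R := k) (a σ τ) = if σ = τ then 1 else 0)
    (hb : ∀ σ τ, CoalgebraStruct.counit (R := k) (b σ τ) = if σ = τ then 1 else 0) (p q : J × J') :
    CoalgebraStruct.counit (R := k) (prodMatrix a b p q) = if p = q then 1 else 0 := by
  obtain ⟨p₁, p₂⟩ := p
  obtain ⟨q₁, q₂⟩ := q
  simp only [prodMatrix, Bialgebra.counit_mul, ha, hb, Prod.mk.injEq]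
  split_ifs <;> simp_all

omit [DecidableEq J] [DecidableEq J'] in
theorem transCoord_prodMatrix (a : Matrix J J A) (b : Matrix J' J' A) (g : A →ₐ[k] R) (v : J → k)
    (w : J' → k) (p : J × J') :
    transCoord (prodMatrix a b) g (fun q => v q.1 * w q.2) p =
      transCoord a g v p.1 * transCoord b g w p.2 := by
  simp only [transCoord, prodMatrix, map_mul, Fintype.sum_prod_type, Finset.sum_mul,
    Finset.mul_sum]
  rw [Finset.sum_comm]
  exact Finset.sum_congr rfl fun _ _ => Finset.sum_congr rfl fun _ _ => by ring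

omit [DecidableEq J] in
theorem transCoord_powMatrix (a : Matrix J J A) (g : A →ₐ[k] R) (v : J → k) {n : ℕ}
    (σs : Fin n → J) :
    transCoord (powMatrix n a) g (fun τs => ∏ i, v (τs i)) σs = ∏ i, transCoord a g v (σs i) := by
  simp only [transCoord, powMatrix, map_prod]
  rw [Fintype.prod_sum]
  exact Finset.sum_congr rfl fun _ _ => (Finset.prod_mul_distrib).symm

omit [DecidableEq J] [DecidableEq J'] in
/-- A stabilised pure tensor has stabilised factors. -/
theorem eq_mul_of_tensor_eq {S : Type u} [CommRing S] {n : ℕ} (x v : J → S) (y w : J' → S) (c : S)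
    (σ₀ : J) (ρ₀ : J') (hv : v σ₀ = 1) (hw : w ρ₀ = 1) (hx : ∃ a : J → S, ∑ σ, a σ * x σ = 1)
    (hy : ∃ b : J' → S, ∑ ρ, b ρ * y ρ = 1)
    (h : ∀ (σs : Fin (n + 1) → J) (ρ : J'), (∏ i, x (σs i)) * y ρ = (∏ i, v (σs i)) * w ρ * c)
    (σ : J) : x σ = v σ * x σ₀ := by
  obtain ⟨a, ha⟩ := hx
  obtain ⟨b, hb⟩ := hy
  have hz : ∃ z, c * z = 1 := by
    refine ⟨∑ σs : Fin (n + 1) → J, ∑ ρ, (∏ i, a (σs i)) * b ρ * ((∏ i, v (σs i)) * w ρ), ?_⟩
    calc c * _ = ∑ σs : Fin (n + 1) → J, ∑ ρ, (∏ i, a (σs i) * x (σs i)) * (b ρ * y ρ) := by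
          rw [Finset.mul_sum]
          refine Finset.sum_congr rfl fun σs _ => ?_
          rw [Finset.mul_sum]
          refine Finset.sum_congr rfl fun ρ _ => ?_
          rw [Finset.prod_mul_distrib]
          linear_combination (-(∏ i, a (σs i)) * b ρ) * h σs ρ
      _ = (∏ _i : Fin (n + 1), ∑ σ, a σ * x σ) * ∑ ρ, b ρ * y ρ := by
          rw [Fintype.prod_sum, Finset.sum_mul]
          exact Finset.sum_congr rfl fun _ _ => (Finset.mul_sum _ _ _).symm
      _ = 1 := by rw [ha, hb, Finset.prod_const_one, one_mul]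
  obtain ⟨z, hz⟩ := hz
  have h0 := h (fun _ => σ₀) ρ₀
  have h1 := h (Fin.cons σ fun _ => σ₀) ρ₀
  simp only [Finset.prod_const, Finset.card_univ, Fintype.card_fin, hv, one_pow, hw, one_mul,
    Fin.prod_univ_succ, Fin.cons_zero, Fin.cons_succ, mul_one] at h0 h1
  calc x σ = x σ * (c * z) := by rw [hz, mul_one]
    _ = x σ₀ * (x σ * x σ₀ ^ n * y ρ₀) * z := by rw [← h0]; ring
    _ = v σ * x σ₀ * (c * z) := by rw [h1]; ring
    _ = v σ * x σ₀ := by rw [hz, mul_one]

end coord

/-- The defining matrix of a closed subgroup. -/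
theorem exists_plucker [Algebra.FiniteType k A] (I : Ideal A) [I.IsHopfIdeal k] :
    ∃ (d e : ℕ) (t : Matrix (Fin d ⊕ Fin e) (Fin d ⊕ Fin e) A),
      (∀ l j, CoalgebraStruct.comul (R := k) (t l j) = ∑ i, t l i ⊗ₜ[k] t i j) ∧
      (∀ l j, CoalgebraStruct.counit (R := k) (t l j) = if l = j then 1 else 0) ∧
      ∀ (R : Type u) [CommRing R] [Algebra k R] (g : A →ₐ[k] R),
        (∀ a ∈ I, g a = 0) ↔ ∀ l j, g (t (Sum.inr l) (Sum.inl j)) = 0 := by
  classical
  have : IsNoetherianRing A := Algebra.FiniteType.isNoetherianRing k A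
  obtain ⟨F, hF⟩ := (IsNoetherian.noetherian (R := A) (M := A) I : I.FG)
  obtain ⟨W, hW, hFW, hsub⟩ := exists_finite_subcomod (k := k) F
  obtain ⟨d, e, t, ht, hε, htI, hgen⟩ := exists_block_of_ideal I W hsub
  refine ⟨d, e, t, ht, hε, fun R _ _ g => ⟨fun h l j => h _ (htI l j), fun h a ha => ?_⟩⟩
  have hS : ∀ x ∈ Submodule.span k
      (Set.range fun p : Fin e × Fin d => t (Sum.inr p.1) (Sum.inl p.2)), g x = 0 := by
    intro x hx
    have : Submodule.span k (Set.range fun p : Fin e × Fin d => t (Sum.inr p.1) (Sum.inl p.2)) ≤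
        LinearMap.ker g.toLinearMap := Submodule.span_le.2 (by rintro _ ⟨p, rfl⟩; exact h p.1 p.2)
    exact this hx
  have hle : I ≤ RingHom.ker g := by
    rw [← hF, Ideal.span_le]
    intro x hx
    exact hS x (hgen x (hFW x hx) (hF ▸ Submodule.subset_span hx))
  exact hle ha

/-- Observable subgroups are stabilisers of fixed vectors up to the line. -/
theorem exists_line_trivial_character [Algebra.FiniteType k A] {B : Type u} [CommRing B]
    [HopfAlgebra k B] (π : A →ₐc[k] B) (hπ : Function.Surjective π)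
    (hocc : ∀ χ : B, IsGroupLikeElem k χ →
      (∃ (V : Type u) (_ : AddCommGroup V) (_ : Module k V) (_ : HopfRep.Comod k A V)
        (_ : Module.Finite k V) (v : V), v ≠ 0 ∧ LinearMap.lTensor V π.toLinearMap
          (HopfRep.Comod.coact (k := k) (A := A) v) = v ⊗ₜ[k] χ) →
      ∃ m : ℕ, 0 < m ∧ ∃ ψ : B, IsGroupLikeElem k ψ ∧ ψ * χ ^ m = 1 ∧
        ∃ (V : Type u) (_ : AddCommGroup V) (_ : Module k V) (_ : HopfRep.Comod k A V)
          (_ : Module.Finite k V) (v : V), v ≠ 0 ∧ LinearMap.lTensor V π.toLinearMap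
            (HopfRep.Comod.coact (k := k) (A := A) v) = v ⊗ₜ[k] ψ) :
    ∃ (V : Type u) (_ : AddCommGroup V) (_ : Module k V) (_ : HopfRep.Comod k A V)
      (_ : Module.Finite k V) (v : V), v ≠ 0 ∧
      Dyn.Represents k A (RingHom.ker (π : A →+* B))
        (fun R _ _ g => SGA3.StabilizesLine k A v R g) ∧
      LinearMap.lTensor V π.toLinearMap (HopfRep.Comod.coact (k := k) (A := A) v) =
        v ⊗ₜ[k] (1 : B) := by
  classical
  have := isHopfIdeal_ker π hπ
  let πa : A →ₐ[k] B := π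
  have hlin : π.toLinearMap = πa.toLinearMap := rfl
  obtain ⟨d, e, t, ht, hε, hI⟩ := exists_plucker (k := k) (RingHom.ker (π : A →+* B))
  let M := powMatrix d t
  let v := pluecker k d e
  have hv0 : v Sum.inl = 1 := by
    simp [v, pluecker, Matrix.submatrix_one _ Sum.inl_injective]
  have hM := comul_powMatrix (d := d) ht
  have hMε := counit_powMatrix (d := d) hε
  obtain ⟨χ, hχ⟩ := (pluecker_stabilized_iff ht hε πa).2 ((hI B πa).1 fun a ha => ha)
  have hχ' := (translate_eq_iff M πa v χ).1 hχ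
  have hχsum : χ = ∑ τ, algebraMap k B (v τ) * πa (M Sum.inl τ) := by
    rw [hχ' Sum.inl, hv0, map_one, one_mul]
  have hgl : IsGroupLikeElem k χ := by
    refine ⟨?_, ?_⟩
    · rw [hχsum, map_sum]
      simp [πa, M, hMε, hv0, CoalgHomClass.counit_comp_apply, ← Algebra.smul_def]
    · have hc : ∀ σ τ, CoalgebraStruct.comul (R := k) (πa (M σ τ)) =
          ∑ ρ, πa (M σ ρ) ⊗ₜ[k] πa (M ρ τ) := fun σ τ => by
        rw [show πa (M σ τ) = π (M σ τ) from rfl, ← CoalgHomClass.map_comp_comul_apply, hM, map_sum]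
        rfl
      conv_lhs => rw [hχsum]
      simp only [← Algebra.smul_def, map_sum, map_smul, hc, Finset.smul_sum, ← tmul_smul]
      rw [Finset.sum_comm]
      simp only [← tmul_sum]
      calc ∑ ρ, πa (M Sum.inl ρ) ⊗ₜ[k] (∑ τ, v τ • πa (M ρ τ))
          = ∑ ρ, πa (M Sum.inl ρ) ⊗ₜ[k] (v ρ • χ) := Finset.sum_congr rfl fun ρ _ => by
            simp only [Algebra.smul_def]; rw [hχ' ρ]
        _ = χ ⊗ₜ[k] χ := by
            rw [show χ ⊗ₜ[k] χ = (∑ ρ, algebraMap k B (v ρ) * πa (M Sum.inl ρ)) ⊗ₜ[k] χ from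
              congrArg (· ⊗ₜ[k] χ) hχsum, sum_tmul]
            simp only [← Algebra.smul_def, smul_tmul]
  obtain ⟨n, hn, ψ, -, hψχ, V', _, _, _, _, v', hv', hψ⟩ := hocc χ hgl
    ⟨_, inferInstance, inferInstance, matrixComod M hM hMε, inferInstance, v, pluecker_ne_zero, hχ⟩
  obtain ⟨n, rfl⟩ := Nat.exists_eq_succ_of_ne_zero hn.ne'
  let b := Module.finBasis k V'
  obtain ⟨t', hΔ', ht', hε'⟩ := exists_comodMatrix (A := A) b
  obtain ⟨ρ₀, hρ₀⟩ : ∃ ρ, b.repr v' ρ ≠ 0 := by
    by_contra h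
    push Not at h
    exact hv' (b.repr.injective ((Finsupp.ext h).trans (map_zero _).symm))
  let w : Fin (Module.finrank k V') → k := fun ρ => (b.repr v' ρ₀)⁻¹ * b.repr v' ρ
  have hw0 : w ρ₀ = 1 := inv_mul_cancel₀ hρ₀
  have hψ' : ∀ ρ, transCoord t' πa w ρ = algebraMap k B (w ρ) * ψ := by
    intro ρ
    have h := congrArg (fun z => TensorProduct.lid k B ((b.coord ρ).rTensor B z)) hψ
    conv_lhs at h => rw [← b.sum_repr v']
    simp only [map_sum, map_smul, hΔ', LinearMap.lTensor_tmul, LinearMap.rTensor_tmul,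
      TensorProduct.lid_tmul, Module.Basis.coord_apply, b.repr_self, Finsupp.single_apply,
      ite_smul, one_smul, zero_smul, Finset.sum_ite_eq', Finset.mem_univ, if_true, hlin] at h
    simp only [transCoord, w, map_mul, mul_assoc, ← Finset.mul_sum]
    rw [← Algebra.smul_def (b.repr v' ρ), ← h]
    simp [Algebra.smul_def]
  let N := prodMatrix (powMatrix (n + 1) M) t'
  let z : (Fin (n + 1) → (Fin d → Fin d ⊕ Fin e)) × Fin (Module.finrank k V') → k :=
    fun q => (∏ i, v (q.1 i)) * w q.2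
  have hN := comul_prodMatrix (comul_powMatrix (d := n + 1) hM) ht'
  have hNε := counit_prodMatrix (counit_powMatrix (d := n + 1) hMε) hε'
  have hcoord : ∀ {R : Type u} [CommRing R] [Algebra k R] (g : A →ₐ[k] R) q,
      transCoord N g z q = (∏ i, transCoord M g v (q.1 i)) * transCoord t' g w q.2 := by
    intro R _ _ g q
    rw [← transCoord_powMatrix]
    exact transCoord_prodMatrix (powMatrix (n + 1) M) t' g (fun τs => ∏ i, v (τs i)) w q
  have htriv : ∀ q, transCoord N πa z q = algebraMap k B (z q) * 1 := by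
    intro q
    rw [hcoord, hψ', Finset.prod_congr rfl (fun i _ => show transCoord M πa v (q.1 i) = _ from hχ' (q.1 i)), Finset.prod_mul_distrib,
      Finset.prod_const, Finset.card_univ, Fintype.card_fin, mul_one]
    simp only [z, map_mul, map_prod]
    rw [Nat.succ_eq_add_one] at hψχ
    linear_combination ((∏ i, algebraMap k B (v (q.1 i))) * algebraMap k B (w q.2)) * hψχ
  refine ⟨_, inferInstance, inferInstance, matrixComod N hN hNε, inferInstance, z, ?_, ?_,
    (translate_eq_iff N πa z 1).2 htriv⟩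
  · intro h
    have := congrFun h (fun _ => Sum.inl, ρ₀)
    simp [z, hv0, hw0] at this
  · intro R _ _ g
    refine Iff.trans ?_ (stabilizes_iff N g z).symm
    constructor
    · intro hg
      refine ⟨1, fun q => ?_⟩
      let h : B →ₐ[k] R := πa.liftOfSurjective hπ g hg
      have hh : ∀ a, h (πa a) = g a := fun a =>
        AlgHom.congr_fun (πa.liftOfSurjective_comp hπ g hg) a
      have := congrArg h (htriv q)
      simp only [transCoord, map_sum, map_mul, map_one, AlgHom.commutes, hh] at this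
      exact this
    · rintro ⟨c, hc⟩
      refine (hI R g).2 ((pluecker_stabilized_iff ht hε g).1
        ((stabilizes_iff M g v).2 ⟨transCoord M g v Sum.inl, fun σ => ?_⟩))
      refine eq_mul_of_tensor_eq (n := n) (transCoord M g v) (fun σ => algebraMap k R (v σ))
        (transCoord t' g w) (fun ρ => algebraMap k R (w ρ)) c Sum.inl ρ₀ (by simp [hv0])
        (by simp [hw0]) (exists_combination_eq_one hM hMε g v hv0)
        (exists_combination_eq_one ht' hε' g w hw0) (fun σs ρ => ?_) σ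
      rw [← hcoord g (σs, ρ)]
      refine (hc (σs, ρ)).trans ?_
      simp [z]

end Groth.Agent.HopfFF
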